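import Cfsg.Agent.H212.CovSp.Row
import Cfsg.Agent.H424.Spr.Two
import Cfsg.Agent.H458.RowPSp

/-!
# S3938 (3/2-generation): `PSp_{2m}(q)`, `m ≥ 5`, `q` odd (helper791, from helper212's S2499 row)

The element `b` of type `neg (m - 1) + J2`: a proper subgroup containing `b` fixes the only `b`-invariant line or the
plane `ker (b ^ n - 1)`.
-/

set_option autoImplicit false
set_option linter.unusedSectionVars false
set_option linter.style.haveILetI false

namespace Cfsg.Agent.H791.Spr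

open Module Matrix Polynomial Cfsg Cfsg.Geo Cfsg.Agent.H376 Cfsg.Agent.H278.Cov Cfsg.Agent.H212.CovSp
open Cfsg.Agent.H424.Spr (Spr spr_of_two_up)
open scoped MatrixGroups

variable {F : Type} [Field F] {m : ℕ}

/-- the stabiliser of a subspace -/
def St [Finite F] (W : Submodule F (Fin m ⊕ Fin m → F)) : Subgroup (symplecticGroup (Fin m) F) where
  carrier := {x | ∀ w ∈ W, x.1 *ᵥ w ∈ W}
  one_mem' := fun w hw => by rw [one_mulVec']; exact hw
  mul_mem' := fun {x y} hx hy w hw => by rw [mul_mulVec]; exact hx _ (hy w hw)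
  inv_mem' := fun {x} hx w hw => by
    haveI : Finite (symplecticGroup (Fin m) F) := inferInstance
    have h1 : x⁻¹ = x ^ (orderOf x - 1) := by
      rw [inv_eq_iff_mul_eq_one, ← pow_succ', Nat.sub_add_cancel (orderOf_pos x), pow_orderOf_eq_one]
    rw [h1]
    exact inv_pow_mem hx _ w hw

variable [Finite F]

theorem mem_St {W : Submodule F (Fin m ⊕ Fin m → F)} {x : symplecticGroup (Fin m) F} :
    x ∈ St W ↔ ∀ w ∈ W, x.1 *ᵥ w ∈ W := Iff.rfl

theorem le_St {K : Subgroup (symplecticGroup (Fin m) F)} {W : Submodule F (Fin m ⊕ Fin m → F)} (h : Inv K W) :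
    K ≤ St W := fun x hx => h x hx

theorem map_St (y : symplecticGroup (Fin m) F) (W : Submodule F (Fin m ⊕ Fin m → F)) :
    (St W).map (MulAut.conj y).toMonoidHom = St (tr y⁻¹ W) := by
  have key : ∀ (y z : symplecticGroup (Fin m) F) (W : Submodule F (Fin m ⊕ Fin m → F)),
      z ∈ St W → y * z * y⁻¹ ∈ St (tr y⁻¹ W) := by
    intro y z W hz
    rw [mem_St]
    apply tr_inv
    have h1 : y⁻¹ * (y * z * y⁻¹) * y⁻¹⁻¹ = z := by group
    rw [h1]
    exact hz
  ext x
  constructor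
  · rintro ⟨z, hz, rfl⟩
    exact key y z W hz
  · intro hx
    refine ⟨y⁻¹ * x * y, ?_, ?_⟩
    · have h1 := key y⁻¹ x _ hx
      rw [map_tr y⁻¹ W, inv_inv] at h1
      exact h1
    · show y * (y⁻¹ * x * y) * y⁻¹ = x
      group

theorem center_le_St (W : Submodule F (Fin m ⊕ Fin m → F)) :
    (QuotientGroup.mk' (Subgroup.center (symplecticGroup (Fin m) F))).ker ≤ St W := by
  rw [QuotientGroup.ker_mk']
  intro x hx w hw
  obtain ⟨a, ha⟩ := (Cfsg.Agent.LieClassical.SympCenter.mem_center_iff m x).1 hx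
  rw [ha, Matrix.smul_mulVec, Matrix.one_mulVec]
  exact W.smul_mem a hw

/-- the only line invariant under `b` -/
theorem line_eq (hm : 5 ≤ m) {b : symplecticGroup (Fin m) F} {n₂ n₃ l : ℕ} (hl : l.Prime)
    (hbl : (b ^ n₂) ^ l = 1) (hord : orderOf ((Nat.card F : ℕ) : ZMod l) = 2 * m - 2)
    (hkd : kd (b ^ n₂).1 (X - C (1 : F)) = 2) {v₀ w₀ : Fin m ⊕ Fin m → F} (hv₀ : (b ^ n₂).1 *ᵥ v₀ = v₀)
    (hw₀ : (b ^ n₂).1 *ᵥ w₀ = w₀) (hvw : fm v₀ w₀ ≠ 0) (hb4 : kd (b ^ n₃).1 (X - C (1 : F)) = 2 * m - 1)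
    {I W : Submodule F (Fin m ⊕ Fin m → F)}
    (hI : I = LinearMap.range ((Matrix.toLin' (b ^ n₃).1 : Module.End F (Fin m ⊕ Fin m → F)) - 1))
    (hW : ∀ w ∈ W, b.1 *ᵥ w ∈ W) (hW1 : finrank F W = 1) : W = I := by
  set y := b ^ n₂ with hy
  set t := b ^ n₃ with ht
  have hl0 : (l : F) ≠ 0 := cast_ne_zero hl (by omega)
  have hy3 : (Matrix.toLin' y.1 : Module.End F (Fin m ⊕ Fin m → F)) ^ l = 1 := by
    rw [← toLin'_coe_pow, hbl, Submonoid.coe_one, Matrix.toLin'_one]
    rfl
  have hyr := kd_add_range (F := F) y.1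
  rw [hkd, Fintype.card_sum, Fintype.card_fin] at hyr
  have htr := kd_add_range (F := F) t.1
  rw [hb4, Fintype.card_sum, Fintype.card_fin, ← hI] at htr
  have hI1 : finrank F I = 1 := by omega
  -- invariant lines are fixed by `y`
  have hfix : ∀ U : Submodule F (Fin m ⊕ Fin m → F), (∀ u ∈ U, b.1 *ᵥ u ∈ U) → finrank F U = 1 →
      ∀ u ∈ U, y.1 *ᵥ u = u := by
    intro U hU hU1 u hu
    rcases le_or_ge hl hy3 hl0 (by omega) U (fun w hw => inv_pow_mem hU n₂ w hw) with h5 | h5
    · have h6 := LinearMap.mem_ker.1 (h5 hu)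
      rw [LinearMap.sub_apply, sub_eq_zero] at h6
      exact h6
    · exfalso
      have h6 := Submodule.finrank_mono h5
      omega
  have hbt : b * t = t * b := by rw [ht, ← pow_succ, ← pow_succ']
  have hIb : ∀ u ∈ I, b.1 *ᵥ u ∈ I := by
    intro u hu
    rw [hI] at hu ⊢
    obtain ⟨z, rfl⟩ := hu
    refine ⟨b.1 *ᵥ z, ?_⟩
    rw [LinearMap.sub_apply, LinearMap.sub_apply, Module.End.one_apply, Module.End.one_apply,
      Matrix.toLin'_apply, Matrix.toLin'_apply, Matrix.mulVec_sub, ← mul_mulVec, ← mul_mulVec, hbt]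
  have hWy := hfix W hW hW1
  have hIy := hfix I hIb hI1
  obtain ⟨w, hw0, hw⟩ := finrank_eq_one_iff'.1 hW1
  obtain ⟨i, hi0, hi⟩ := finrank_eq_one_iff'.1 hI1
  by_contra hne
  -- `w`, `i` are independent
  have hwi : w.1 ∉ I := by
    intro hmem
    apply hne
    apply Submodule.eq_of_le_of_finrank_le
    · intro x hx
      obtain ⟨α, hα⟩ := hw ⟨x, hx⟩
      have : x = α • w.1 := (congrArg Subtype.val hα).symm
      rw [this]
      exact I.smul_mem α hmem
    · omega
  -- `t` fixes `w`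
  have htw : t.1 *ᵥ w.1 = w.1 := by
    obtain ⟨α, hα⟩ := hw ⟨t.1 *ᵥ w.1, inv_pow_mem hW n₃ w.1 w.2⟩
    have h3 : t.1 *ᵥ w.1 = α • w.1 := (congrArg Subtype.val hα).symm
    by_cases h1 : α = 1
    · rw [h3, h1, one_smul]
    · exfalso
      apply hwi
      have h4 : (α - 1) • w.1 ∈ I := by
        rw [hI]
        refine ⟨w.1, ?_⟩
        rw [LinearMap.sub_apply, Module.End.one_apply, Matrix.toLin'_apply, h3, sub_smul, one_smul]
      have h5 := I.smul_mem (α - 1)⁻¹ h4
      rwa [smul_smul, inv_mul_cancel₀ (sub_ne_zero.2 h1), one_smul] at h5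
  -- `fm w i = 0`
  have hwi0 : fm w.1 i.1 = 0 := by
    obtain ⟨u, hu⟩ := hI.le i.2
    rw [LinearMap.sub_apply, Module.End.one_apply, Matrix.toLin'_apply] at hu
    rw [← hu]
    have h8 : fm w.1 (t.1 *ᵥ u - u) = fm w.1 (t.1 *ᵥ u) - fm w.1 u := by
      rw [← Bf_apply, ← Bf_apply, ← Bf_apply, map_sub]
    rw [h8]
    nth_rw 1 [← htw]
    rw [fm_mulVec, sub_self]
  -- the plane
  have hV : finrank F (LinearMap.ker (Polynomial.aeval (Matrix.toLin' y.1) (X - C (1 : F)))) = 2 := hkd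
  set P := LinearMap.ker (Polynomial.aeval (Matrix.toLin' y.1) (X - C (1 : F))) with hP
  have hmemP : ∀ v, v ∈ P ↔ y.1 *ᵥ v = v := by
    intro v
    rw [hP, mem_ker_X_sub_C, one_smul]
  have hsp : Submodule.span F {w.1, i.1} = P := by
    apply Submodule.eq_of_le_of_finrank_le
    · rw [Submodule.span_le]
      rintro x (rfl | rfl)
      · exact (hmemP _).2 (hWy _ w.2)
      · exact (hmemP _).2 (hIy _ i.2)
    · rw [hV]
      have hli : LinearIndependent F ![w.1, i.1] := by
        rw [LinearIndependent.pair_iff]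
        intro α β h
        have hα : α = 0 := by
          by_contra hα
          apply hwi
          have h1 : w.1 = (-(α⁻¹ * β)) • i.1 := by
            have h2 : α⁻¹ • (α • w.1 + β • i.1) = 0 := by rw [h, smul_zero]
            rw [smul_add, smul_smul, inv_mul_cancel₀ hα, one_smul, smul_smul] at h2
            rw [neg_smul]
            exact eq_neg_of_add_eq_zero_left h2
          rw [h1]
          exact I.smul_mem _ i.2
        refine ⟨hα, ?_⟩
        rw [hα, zero_smul, zero_add, smul_eq_zero] at h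
        exact h.resolve_right fun h1 => hi0 (Subtype.ext h1)
      have h1 := finrank_span_eq_card hli
      have h2 : Set.range ![w.1, i.1] = {w.1, i.1} := by
        simp [Matrix.range_cons, Matrix.range_empty, Set.pair_comm]
      rw [h2] at h1
      rw [h1]
      simp
  -- contradiction
  apply hvw
  have h1 : v₀ ∈ Submodule.span F {w.1, i.1} := by rw [hsp, hmemP]; exact hv₀
  have h2 : w₀ ∈ Submodule.span F {w.1, i.1} := by rw [hsp, hmemP]; exact hw₀
  obtain ⟨α, β, rfl⟩ := Submodule.mem_span_pair.1 h1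
  obtain ⟨γ, δ, rfl⟩ := Submodule.mem_span_pair.1 h2
  have hiw0 : fm i.1 w.1 = 0 := by
    have h3 : (Bf m F) i.1 w.1 = 0 := Bf_refl _ _ (by rw [Bf_apply]; exact hwi0)
    rwa [Bf_apply] at h3
  rw [← Bf_apply]
  simp only [map_add, map_smul, LinearMap.add_apply, LinearMap.smul_apply, Bf_apply, fm_self, hwi0, hiw0, smul_zero,
    add_zero]

/-- **S3938-PSP10**: `PSp_{2m}(q)`, `m ≥ 5`, `q` odd, from the text of S5948 -/
theorem spr_psp10 {F : Type} [Field F] [Fintype F] {m : ℕ} (hP : H659.CovCore.S5948Stmt.{0}) (hm : 5 ≤ m)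
    (hodd : Odd (Fintype.card F)) : Spr (PSp m F) := by
  haveI hs : IsSimpleGroup (PSp m F) := Cfsg.Agent.S0270.result m (by omega) (by omega)
  haveI hfin : Finite (PSp m F) := by
    haveI : Finite (symplecticGroup (Fin m) F) := inferInstance
    exact inferInstanceAs (Finite (symplecticGroup (Fin m) F ⧸ Subgroup.center (symplecticGroup (Fin m) F)))
  have hna : ∃ x y : PSp m F, x * y ≠ y * x := by
    by_contra hcon
    push Not at hcon
    exact Cfsg.Agent.H458.RowPSp.not_comm (F := F) (m := m) (by omega) (by omega) ⟨⟨hcon⟩⟩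
  obtain ⟨a, -, ha2⟩ := exists_a (F := F) hodd hm
  obtain ⟨b, ⟨n₁, hb1⟩, ⟨n₂, l, hl, hbl, -, hord, hkd, v₀, w₀, hv₀, hw₀, hvw⟩, ⟨n₃, hb3, hb4⟩⟩ :=
    exists_b (F := F) hodd hm
  have hgcd : Nat.gcd (2 * m) (2 * m - 2) ∣ 2 := by
    have h1 := Nat.gcd_dvd_left (2 * m) (2 * m - 2)
    have h2 := Nat.gcd_dvd_right (2 * m) (2 * m - 2)
    have h3 := Nat.dvd_sub h1 h2
    have h4 : 2 * m - (2 * m - 2) = 2 := by omega
    rwa [h4] at h3
  -- a proper subgroup containing `b` is reducible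
  have keyB : ∀ (K : Subgroup (symplecticGroup (Fin m) F)), K ≠ ⊤ → b ∈ K →
      ∃ W : Submodule F (Fin m ⊕ Fin m → F), W ≠ ⊥ ∧ W ≠ ⊤ ∧ Inv K W := by
    intro K hK hg
    rcases og hP hodd hK (K.pow_mem hg n₁) (k := 2 * m - 2) hb1 with h | h
    · exact h
    · exfalso
      obtain ⟨r, hr, hrd, h2⟩ := ext_dvd' h
      have hr2 : r = 2 := (Nat.prime_dvd_prime_iff_eq hr Nat.prime_two).1 (hrd.trans hgcd)
      subst hr2
      have h3 := h2 1 (b ^ n₃) (by simpa using K.pow_mem hg n₃) hb3 (X - C 1)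
      rw [hb4] at h3
      omega
  set I : Submodule F (Fin m ⊕ Fin m → F) :=
    LinearMap.range ((Matrix.toLin' (b ^ n₃).1 : Module.End F (Fin m ⊕ Fin m → F)) - 1) with hI
  set P : Submodule F (Fin m ⊕ Fin m → F) :=
    LinearMap.ker (Polynomial.aeval (Matrix.toLin' (b ^ n₂).1) (X - C (1 : F))) with hPd
  have hline : ∀ W : Submodule F (Fin m ⊕ Fin m → F), (∀ w ∈ W, b.1 *ᵥ w ∈ W) → finrank F W = 1 → W = I :=
    fun W hW hW1 => line_eq hm hl hbl hord hkd hv₀ hw₀ hvw hb4 hI hW hW1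
  have hI1 : finrank F I = 1 := by
    have htr := kd_add_range (F := F) (b ^ n₃).1
    rw [hb4, Fintype.card_sum, Fintype.card_fin, ← hI] at htr
    omega
  have hP2 : finrank F P = 2 := hkd
  have hdim : finrank F (Fin m ⊕ Fin m → F) = m + m := by
    rw [Module.finrank_fintype_fun_eq_card, Fintype.card_sum, Fintype.card_fin]
  have hntop : ∀ W : Submodule F (Fin m ⊕ Fin m → F), (finrank F W = 1 ∨ finrank F W = 2) → St W ≠ ⊤ := by
    intro W hW htop
    have h1 : a ∈ St W := by rw [htop]; trivial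
    rcases ha2 W h1 with h2 | h2
    · rw [h2, finrank_bot] at hW
      omega
    · rw [h2, finrank_top, hdim] at hW
      omega
  -- `b` fixes the plane
  have hbP : b ∈ St P := by
    intro w hw
    rw [hPd, mem_ker_X_sub_C, one_smul] at hw ⊢
    have hcomm : b ^ n₂ * b = b * b ^ n₂ := by rw [← pow_succ, ← pow_succ']
    rw [← mul_mulVec, hcomm, mul_mulVec, hw]
  refine spr_of_two_up hna (QuotientGroup.mk' (Subgroup.center (symplecticGroup (Fin m) F)))
    (QuotientGroup.mk'_surjective _) (s := b) (center_le_St I) (center_le_St P) (hntop I (Or.inl hI1))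
    (hntop P (Or.inr hP2)) ?_ ?_
  · intro y hy
    rw [map_St] at hy
    have h1 : tr y⁻¹ I = I := by
      apply hline
      · have h2 : b ∈ St (tr y⁻¹ I) := by rw [hy]; exact hbP
        exact h2
      · rw [finrank_tr, hI1]
    rw [h1] at hy
    exact hy
  · intro K _ hbK hK
    obtain ⟨W, hW0, hW1, hW⟩ := keyB K hK hbK
    obtain ⟨U, hU0, hU, hUfix⟩ := exists_small hW0 hW1 hW hm (K.pow_mem hbK n₂) hl hbl hord hkd
    have hUle : U ≤ P := by
      intro u hu
      rw [hPd, mem_ker_X_sub_C, one_smul]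
      exact hUfix u hu
    have hU2 : finrank F U ≤ 2 := by
      rw [← hP2]
      exact Submodule.finrank_mono hUle
    have hU1 : 0 < finrank F U := Module.finrank_pos_iff.2 (Submodule.nontrivial_iff_ne_bot.2 hU0)
    rcases Nat.lt_or_ge (finrank F U) 2 with h2 | h2
    · left
      have h3 := hline U (fun w hw => hU b hbK w hw) (by omega)
      rw [← h3]
      exact le_St hU
    · right
      have h3 : U = P := Submodule.eq_of_le_of_finrank_le hUle (by omega)
      rw [← h3]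
      exact le_St hU

end Cfsg.Agent.H791.Spr
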